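import Groth.Agent.GrpLociLib.Basic
import Groth.Agent.NeutralSchLib.Basic
import Groth.Agent.QuotRepLib.Restrict
import Groth.Agent.TwConstLib.Etale
import Groth.Agent.OrbitLib.Smooth

/-!
Flat homomorphisms and neutral components.
-/

set_option autoImplicit false
set_option backward.isDefEq.respectTransparency false

noncomputable section

universe u

open CategoryTheory CategoryTheory.Limits MonoidalCategory CartesianMonoidalCategory AlgebraicGeometry Topology
open scoped MonObj
open Groth.Agent.HomogDense Groth.Agent.GrpField Groth.Agent.NeutralSch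

namespace Groth.Agent.NeutralFlat

section Field

variable {k : Type u} [Field k] {G H : Over (Spec (CommRingCat.of k))} [GrpObj G] [GrpObj H] (v : G ⟶ H) [IsMonHom v]

theorem map_unit : v.left (unitPt G) = unitPt H := by
  unfold unitPt
  rw [← Scheme.Hom.comp_apply, ← Over.comp_left, IsMonHom.one_hom]

theorem image_Z0_of_flat [LocallyOfFiniteType G.hom] [LocallyOfFiniteType H.hom] [Flat v.left] :
    v.left '' Z0 G = Z0 H := by
  haveI : LocallyOfFinitePresentation G.hom := inferInstance
  haveI : LocallyOfFinitePresentation (v.left ≫ H.hom) := (Over.w v).symm ▸ inferInstance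
  haveI : LocallyOfFinitePresentation v.left := Unram17Lib.lfp_of_comp_lft v.left H.hom
  haveI : UniversallyOpen v.left := inferInstance
  haveI : IsLocallyNoetherian G.left := LocallyOfFiniteType.isLocallyNoetherian G.hom
  haveI := TwConstLib.locallyConnectedSpace_of_isLocallyNoetherian G.left
  refine Set.Subset.antisymm ?_ fun x hx => ?_
  · rw [← connectedComponent_unit, ← connectedComponent_unit, ← map_unit v]
    exact v.left.continuous.image_connectedComponent_subset _
  · have hopen : IsOpen (v.left '' Z0 G) :=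
      v.left.isOpenMap _ (connectedComponent_unit (G := G) ▸ isOpen_connectedComponent)
    rw [← neutralSet_field] at hx
    have he : us H (H.hom x) ∈ v.left '' Z0 G := by
      refine ⟨us G (H.hom x), neutralSet_field G ▸ us_mem _, ?_⟩
      show ((η[G] ≫ v).left) _ = _
      rw [IsMonHom.one_hom]
      rfl
    obtain ⟨z, ⟨a, ha, hza⟩, -, ⟨b, hb, hzb⟩, -, hzx⟩ := exists_mul (G := H) hx hopen he
    obtain ⟨z', hz', hz'a⟩ := Scheme.exists_preimage_of_isPullback (QuotRep.isPullback_whiskerRight v H) z a hza.symm
    obtain ⟨w, hwz', hwb⟩ := Scheme.exists_preimage_of_isPullback (FinHom.isPullback_whiskerLeft G v) z' b (by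
      rw [hzb, ← hz']
      exact (congrArg (fun φ : G ⊗ H ⟶ H => φ.left z') (whiskerRight_snd v H)).symm)
    refine ⟨μ[G].left w, ?_, ?_⟩
    · rw [← neutralSet_field] at ha hb ⊢
      refine mem_of_mu w ?_ ?_
      · have : (fst G G).left w = (fst G H).left ((G ◁ v).left w) := by
          rw [← Scheme.Hom.comp_apply, ← Over.comp_left, whiskerLeft_fst]
        rw [this, hwz']
        exact hz'a.symm ▸ ha
      · exact (show (snd G G).left w = b from hwb).symm ▸ hb
    · rw [← hzx, ← hz', ← hwz']
      show (μ[G] ≫ v).left w = ((G ◁ v) ≫ (v ▷ H) ≫ μ[H]).left w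
      rw [IsMonHom.mul_hom, ← Category.assoc, ← tensorHom_def']

theorem flat_of_image_Z0 [LocallyOfFiniteType G.hom] [IsReduced H.left] (h : v.left '' Z0 G = Z0 H) :
    Flat v.left := by
  obtain ⟨θ, hθ, -, hZ⟩ := exists_Z0_gen H
  obtain ⟨x, -, hx⟩ : θ ∈ v.left '' Z0 G := by
    rw [h, hZ]
    exact subset_closure rfl
  have hF : (v.left.stalkMap x).hom.Flat := by
    algebraize [(v.left.stalkMap x).hom]
    letI := (OrbitLib.isField_stalk_of_max (v.left x) (hx ▸ hθ)).toField
    exact (inferInstance : Module.Flat (H.left.presheaf.stalk (v.left x)) (G.left.presheaf.stalk x))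
  exact HomTransl.flat_of_flatAt (a := HomTransl.homAction v) (HomTransl.hom_equivariant v) x hF

end Field

variable {S : Scheme.{u}} {G H : Over S} [GrpObj G] [GrpObj H] (u : G ⟶ H) [IsMonHom u]

theorem fibre_image (s : S) :
    pullback.fst H.hom (S.fromSpecResidueField s) '' ((GrpLoci.onFibre u s).left '' Z0 (Fib G s)) =
      u.left '' SecCompLib.comp G.hom (us G) s := by
  rw [← image_Z0, Set.image_image, Set.image_image]
  refine Set.image_congr fun z _ => ?_
  exact congrArg (fun φ : (Fib G s).left ⟶ H.left => φ z) (GrpLoci.isPullback_map (S.fromSpecResidueField s) u).w.symm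

theorem image_neutralSet_iff :
    u.left '' SGA3x.neutralSet G = SGA3x.neutralSet H ↔
      ∀ s : S, (GrpLoci.onFibre u s).left '' Z0 (Fib G s) = Z0 (Fib H s) := by
  have hu : ∀ x, H.hom (u.left x) = G.hom x := fun x => by rw [← Scheme.Hom.comp_apply, Over.w]
  constructor
  · intro h s
    refine (H.hom.fiberι s).isEmbedding.injective.image_injective ?_
    show pullback.fst H.hom _ '' _ = pullback.fst H.hom _ '' _
    rw [fibre_image, image_Z0, ← neutralSet_inter_fibre, ← neutralSet_inter_fibre, ← h]
    ext y
    constructor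
    · rintro ⟨x, ⟨hx, hxs⟩, rfl⟩
      exact ⟨⟨x, hx, rfl⟩, (hu x).trans hxs⟩
    · rintro ⟨⟨x, hx, rfl⟩, hxs⟩
      exact ⟨x, ⟨hx, (hu x).symm.trans hxs⟩, rfl⟩
  · intro h
    have hs : ∀ s, u.left '' SecCompLib.comp G.hom (us G) s = SecCompLib.comp H.hom (us H) s := fun s => by
      rw [← fibre_image, h, image_Z0]
    ext y
    constructor
    · rintro ⟨x, hx, rfl⟩
      have : u.left x ∈ SecCompLib.comp H.hom (us H) (G.hom x) :=
        hs _ ▸ ⟨x, neutralSet_inter_fibre G (G.hom x) ▸ ⟨hx, rfl⟩, rfl⟩
      rw [← neutralSet_inter_fibre] at this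
      exact this.1
    · intro hy
      have : y ∈ u.left '' SecCompLib.comp G.hom (us G) (H.hom y) :=
        (hs _).symm ▸ (neutralSet_inter_fibre H (H.hom y) ▸ ⟨hy, rfl⟩)
      obtain ⟨x, hx, rfl⟩ := this
      rw [← neutralSet_inter_fibre] at hx
      exact ⟨x, hx.1, rfl⟩

variable [LocallyOfFinitePresentation G.hom] [LocallyOfFinitePresentation H.hom]

theorem image_of_flat [Flat u.left] : u.left '' SGA3x.neutralSet G = SGA3x.neutralSet H := by
  refine (image_neutralSet_iff u).2 fun s => ?_
  haveI : IsMonHom (M := Fib G s) (N := Fib H s) (GrpLoci.onFibre u s) := DiagRep.isMonHom_bc_map _ u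
  haveI : Flat (GrpLoci.onFibre u s).left := MorphismProperty.of_isPullback (GrpLoci.isPullback_map _ u) ‹_›
  haveI : LocallyOfFiniteType (Fib G s).hom := MorphismProperty.pullback_snd (P := @LocallyOfFiniteType) _ _ inferInstance
  haveI : LocallyOfFiniteType (Fib H s).hom := MorphismProperty.pullback_snd (P := @LocallyOfFiniteType) _ _ inferInstance
  exact image_Z0_of_flat (k := S.residueField s) _

theorem flat_of_image [Flat G.hom] (hred : ∀ s : S, IsReduced (H.hom.fiber s))
    (h : u.left '' SGA3x.neutralSet G = SGA3x.neutralSet H) : Flat u.left := by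
  haveI := GrpLoci.lfp_hom u
  refine Flat.of_stalkMap _ fun x => Unram17Lib.flat_stalkMap_of_exists u.left (GrpLoci.flat_near u x ?_)
  let s := G.hom.base x
  haveI : IsMonHom (M := Fib G s) (N := Fib H s) (GrpLoci.onFibre u s) := DiagRep.isMonHom_bc_map _ u
  haveI : LocallyOfFiniteType (Fib G s).hom := MorphismProperty.pullback_snd (P := @LocallyOfFiniteType) _ _ inferInstance
  haveI : IsReduced (Fib H s).left := hred s
  exact flat_of_image_Z0 (k := S.residueField s) _ ((image_neutralSet_iff u).1 h s)

end Groth.Agent.NeutralFlat
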